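import Mathlib.AlgebraicGeometry.Normalization
import Mathlib.AlgebraicGeometry.Morphisms.Proper
import Mathlib.AlgebraicGeometry.Morphisms.UniversallyInjective
import Mathlib.AlgebraicGeometry.Geometrically.Connected
import Mathlib.FieldTheory.IsAlgClosed.AlgebraicClosure
import Groth.Agent.S0388

set_option linter.style.haveILetI false
set_option backward.isDefEq.respectTransparency false
set_option backward.isDefEq.respectTransparency.types false

universe u
open CategoryTheory CategoryTheory.Limits AlgebraicGeometry TopologicalSpace Polynomial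
open scoped TensorProduct

namespace Groth.Agent.SteinUI12

lemma universallyInjective_fromNormalization {X S : Scheme.{u}} [IsAffine S] (f : X ⟶ S)
    [IsProper f] (h : UniversallyInjective (Spec.map f.appTop)) :
    UniversallyInjective f.fromNormalization := by
  haveI : IsAffine f.normalization := isAffine_of_isAffineHom f.fromNormalization
  haveI : IsIso f.toNormalization.appTop := (Groth.Agent.S0388.result f).2 ⊤
  have e : f.appTop = f.fromNormalization.appTop ≫ f.toNormalization.appTop := by
    rw [← Scheme.Hom.comp_appTop, f.toNormalization_fromNormalization]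
  rw [e, Spec.map_comp] at h
  have h' : UniversallyInjective (Spec.map f.fromNormalization.appTop) := by
    have := (MorphismProperty.cancel_left_of_respectsIso (P := @UniversallyInjective) _ _).mp h
    exact this
  have e2 : f.fromNormalization =
      f.normalization.isoSpec.hom ≫ Spec.map f.fromNormalization.appTop ≫ S.isoSpec.inv := by
    rw [← Category.assoc, Iso.eq_comp_inv]
    exact (Scheme.isoSpec_hom_naturality f.fromNormalization).symm
  rw [e2, MorphismProperty.cancel_left_of_respectsIso (P := @UniversallyInjective),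
    MorphismProperty.cancel_right_of_respectsIso (P := @UniversallyInjective)]
  exact h'

lemma preconnectedSpace_pullback {X S : Scheme.{u}} [IsAffine S] (f : X ⟶ S)
    [IsProper f] (h : UniversallyInjective (Spec.map f.appTop))
    (K : Type u) [Field K] (x : Spec (CommRingCat.of K) ⟶ S) :
    PreconnectedSpace ↥(pullback f x) := by
  haveI := universallyInjective_fromNormalization f h
  haveI := (Groth.Agent.S0388.result f).1
  let q : pullback f x ⟶ pullback f.fromNormalization x :=
    pullback.map f x f.fromNormalization x f.toNormalization (𝟙 _) (𝟙 _)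
      (by simp) (by simp)
  have hq : IsPullback (pullback.fst f x) q f.toNormalization (pullback.fst f.fromNormalization x) := by
    refine IsPullback.of_bot ?_ ?_
      (IsPullback.of_hasPullback f.fromNormalization x)
    · simpa [q] using IsPullback.of_hasPullback f x
    · simp [q]
  haveI : GeometricallyConnected q :=
    MorphismProperty.of_isPullback hq (inferInstance : GeometricallyConnected f.toNormalization)
  haveI : UniversallyInjective (pullback.snd f.fromNormalization x) :=
    MorphismProperty.pullback_snd _ _ inferInstance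
  haveI : Subsingleton ↥(pullback f.fromNormalization x) :=
    (pullback.snd f.fromNormalization x).injective.subsingleton
  rcases isEmpty_or_nonempty ↥(pullback f x) with h0 | ⟨⟨z⟩⟩
  · exact ⟨by simp [Set.univ_eq_empty_iff.mpr h0, isPreconnected_empty]⟩
  · haveI : Nonempty ↥(pullback f.fromNormalization x) := ⟨q z⟩
    haveI : ConnectedSpace ↥(pullback f x) :=
      GeometricallyConnected.connectedSpace_of_subsingleton q
    infer_instance

lemma surjective_toSpecΓ {X S : Scheme.{u}} [IsAffine S] (f : X ⟶ S) [UniversallyClosed f] :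
    Surjective X.toSpecΓ := by
  have : CompactSpace X := (quasiCompact_iff_compactSpace f).mp inferInstance
  have : UniversallyClosed (X.toSpecΓ ≫ Spec.map f.appTop) := by
    rw [← Scheme.toSpecΓ_naturality,
      MorphismProperty.cancel_right_of_respectsIso (P := @UniversallyClosed)]
    infer_instance
  have : UniversallyClosed X.toSpecΓ := .of_comp_of_isSeparated _ (Spec.map f.appTop)
  refine ⟨fun y => ?_⟩
  have h1 : IsClosed (Set.range X.toSpecΓ.base) := X.toSpecΓ.isClosedMap.isClosed_range
  have h2 : Dense (Set.range X.toSpecΓ.base) := X.toSpecΓ.denseRange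
  have : y ∈ Set.range X.toSpecΓ.base := h1.closure_eq ▸ h2 y
  exact this

open PrimeSpectrum in
lemma algHom_eq_of_preconnected {K R : Type u} [Field K] [IsAlgClosed K] [CommRing R] [Algebra K R]
    [PreconnectedSpace (PrimeSpectrum R)] (φ₁ φ₂ : R →ₐ[K] K) (r : R) (hr : IsIntegral K r) :
    φ₁ r = φ₂ r := by
  classical
  obtain ⟨p, hp, hp0⟩ := hr
  have hsplit : p.Splits := IsAlgClosed.splits p
  have hprod : (p.roots.map fun a => r - algebraMap K R a).prod = 0 := by
    have h1 := hsplit.eq_prod_roots
    rw [hp.leadingCoeff, map_one, one_mul] at h1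
    rw [h1] at hp0
    rw [← hp0, ← aeval_def, map_multiset_prod, Multiset.map_map]
    congr 1
    refine Multiset.map_congr rfl fun a _ => ?_
    simp
  by_contra hne
  set a := φ₁ r
  let s : Finset K := p.roots.toFinset.erase a
  let Z := ⋃ b ∈ s, zeroLocus ({r - algebraMap K R b} : Set R)
  have hZ : IsClosed Z := s.finite_toSet.isClosed_biUnion fun b _ => isClosed_zeroLocus _
  let V := zeroLocus ({r - algebraMap K R a} : Set R)
  have hV : IsClosed V := isClosed_zeroLocus _
  have hcov : V ∪ Z = Set.univ := by
    refine Set.eq_univ_of_forall fun P => ?_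
    have h0 : (p.roots.map fun a => r - algebraMap K R a).prod ∈ P.asIdeal := by
      rw [hprod]; exact zero_mem _
    obtain ⟨y, hy, hyP⟩ := (P.isPrime.multiset_prod_mem_iff_exists_mem _).mp h0
    obtain ⟨b, hb, rfl⟩ := Multiset.mem_map.mp hy
    by_cases hba : b = a
    · subst hba; left; simpa [V, mem_zeroLocus] using hyP
    · right
      simp only [Z, Set.mem_iUnion]
      exact ⟨b, Finset.mem_erase.mpr ⟨hba, Multiset.mem_toFinset.mpr hb⟩, by simpa [mem_zeroLocus] using hyP⟩
  have hdisj : V ∩ Z = ∅ := by
    refine Set.eq_empty_of_forall_notMem fun P ⟨hP, hP'⟩ => ?_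
    simp only [Z, Set.mem_iUnion] at hP'
    obtain ⟨b, hb, hbP⟩ := hP'
    simp only [V, mem_zeroLocus, Set.singleton_subset_iff, SetLike.mem_coe] at hP hbP
    have h3 : algebraMap K R (b - a) ∈ P.asIdeal := by
      have h4 := Ideal.sub_mem _ hP hbP
      convert h4 using 1
      rw [map_sub]; ring
    exact P.isPrime.ne_top (Ideal.eq_top_of_isUnit_mem _ h3
      ((isUnit_iff_ne_zero.mpr (sub_ne_zero.mpr (Finset.mem_erase.mp hb).1)).map _))
  have hVc : V = Zᶜ := by
    ext P
    have := Set.ext_iff.mp hcov P
    have := Set.ext_iff.mp hdisj P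
    simp only [Set.mem_union, Set.mem_inter_iff, Set.mem_univ, Set.mem_empty_iff_false, Set.mem_compl_iff] at *
    tauto
  have hclop : IsClopen V := ⟨hV, hVc ▸ hZ.isOpen_compl⟩
  haveI h1 : (RingHom.ker φ₁).IsPrime := RingHom.ker_isPrime _
  haveI h2 : (RingHom.ker φ₂).IsPrime := RingHom.ker_isPrime _
  have hm : (⟨RingHom.ker φ₁, h1⟩ : PrimeSpectrum R) ∈ V := by
    simp [V, mem_zeroLocus, a]
  have hn : (⟨RingHom.ker φ₂, h2⟩ : PrimeSpectrum R) ∉ V := by
    simp [V, mem_zeroLocus, a, sub_eq_zero, Ne.symm hne]
  rcases _root_.isClopen_iff.mp hclop with h3 | h3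
  · rw [h3] at hm; exact hm
  · rw [h3] at hn; exact hn (Set.mem_univ _)

lemma preconnectedSpace_of_surjective {α β : Type*} [TopologicalSpace α] [TopologicalSpace β]
    [PreconnectedSpace α] {f : α → β} (hf : Function.Surjective f) (hc : Continuous f) :
    PreconnectedSpace β :=
  ⟨hf.range_eq ▸ isPreconnected_range hc⟩

lemma universallyInjective_of_pullback {X S Z : Scheme.{u}} [IsAffine S] [IsAffine Z] (f : X ⟶ S)
    [IsProper f] (h : UniversallyInjective (Spec.map f.appTop)) (q : Z ⟶ S) :
    UniversallyInjective (Spec.map (pullback.snd f q).appTop) := by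
  set g := pullback.snd f q
  haveI : IsProper g := by infer_instance
  refine ((tfae_universallyInjective (Spec.map g.appTop)).out 0 1).mpr ?_
  intro K _ g₁ g₂ hg
  let L := AlgebraicClosure K
  obtain ⟨φ₁, rfl⟩ := Spec.map_surjective g₁
  obtain ⟨φ₂, rfl⟩ := Spec.map_surjective g₂
  have hg' : g.appTop ≫ φ₁ = g.appTop ≫ φ₂ := Spec.map_injective (by simpa using hg)
  suffices φ₁ ≫ CommRingCat.ofHom (algebraMap K L) = φ₂ ≫ CommRingCat.ofHom (algebraMap K L) by
    congr 1
    ext r
    exact (algebraMap K L).injective (congr($(this).hom r))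
  let ψ₁ : Γ(pullback f q, ⊤) →+* L := (φ₁ ≫ CommRingCat.ofHom (algebraMap K L)).hom
  let ψ₂ : Γ(pullback f q, ⊤) →+* L := (φ₂ ≫ CommRingCat.ofHom (algebraMap K L)).hom
  have hψ : ψ₁.comp g.appTop.hom = ψ₂.comp g.appTop.hom :=
    congr(($(hg') ≫ CommRingCat.ofHom (algebraMap K L)).hom)
  have hint : g.appTop.hom.IsIntegral := isIntegral_appTop_of_universallyClosed g
  let R₀ := Γ(Z, ⊤)
  let B := Γ(pullback f q, ⊤)
  letI : Algebra R₀ B := g.appTop.hom.toAlgebra
  letI : Algebra R₀ L := (ψ₁.comp g.appTop.hom).toAlgebra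
  let y : Spec (CommRingCat.of L) ⟶ Spec (CommRingCat.of R₀) :=
    Spec.map (CommRingCat.ofHom (algebraMap R₀ L))
  haveI := surjective_toSpecΓ g
  have hk : Spec.map g.appTop = Spec.map (CommRingCat.ofHom (algebraMap R₀ B)) := rfl
  haveI : PreconnectedSpace ↥(pullback (g ≫ Z.toSpecΓ) y) := by
    haveI := preconnectedSpace_pullback f h L (y ≫ inv Z.toSpecΓ ≫ q)
    let e : pullback (g ≫ Z.toSpecΓ) y ≅ pullback f (y ≫ inv Z.toSpecΓ ≫ q) := by
      refine IsPullback.isoPullback (P := pullback (g ≫ Z.toSpecΓ) y)
        (fst := pullback.fst _ _ ≫ pullback.fst f q) (snd := pullback.snd _ _) ?_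
      refine IsPullback.flip ?_
      have h1 : IsPullback (pullback.snd (g ≫ Z.toSpecΓ) y) (pullback.fst (g ≫ Z.toSpecΓ) y)
          (y ≫ inv Z.toSpecΓ) g := by
        have := (IsPullback.of_hasPullback (g ≫ Z.toSpecΓ) y).flip
        refine this.of_iso (Iso.refl _) (Iso.refl _) (Iso.refl _) (asIso (inv Z.toSpecΓ)) ?_ ?_ ?_ ?_ <;>
          simp
      exact h1.paste_vert (IsPullback.of_hasPullback f q).flip |> fun h2 => by simpa [Category.assoc] using h2
    exact e.hom.homeomorph.symm.surjective.comp Function.surjective_id |> fun hs =>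
      preconnectedSpace_of_surjective hs e.hom.homeomorph.symm.continuous
  let w : pullback (g ≫ Z.toSpecΓ) y ⟶ pullback (Spec.map g.appTop) y :=
    pullback.map _ _ _ _ (pullback f q).toSpecΓ (𝟙 _) (𝟙 _)
      (by simp [Scheme.toSpecΓ_naturality]) (by simp)
  have hw : IsPullback (pullback.fst (g ≫ Z.toSpecΓ) y) w (pullback f q).toSpecΓ
      (pullback.fst (Spec.map g.appTop) y) := by
    refine IsPullback.of_bot ?_ ?_
      (IsPullback.of_hasPullback (Spec.map g.appTop) y)
    · simpa [w, Scheme.toSpecΓ_naturality] using IsPullback.of_hasPullback (g ≫ Z.toSpecΓ) y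
    · simp [w]
  haveI : Surjective w := MorphismProperty.of_isPullback hw ‹_›
  haveI hcon : PreconnectedSpace ↥(pullback (Spec.map g.appTop) y) :=
    preconnectedSpace_of_surjective w.surjective w.continuous
  haveI : PreconnectedSpace (PrimeSpectrum (L ⊗[R₀] B)) := by
    let e : pullback (Spec.map g.appTop) y ≅ Spec (CommRingCat.of (L ⊗[R₀] B)) :=
      pullbackSymmetry _ _ ≪≫ pullbackSpecIso R₀ L B
    exact preconnectedSpace_of_surjective (α := ↥(pullback (Spec.map g.appTop) y))
      e.hom.homeomorph.surjective e.hom.homeomorph.continuous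
  let a₁ : B →ₐ[R₀] L := { ψ₁ with commutes' := fun _ => rfl }
  let a₂ : B →ₐ[R₀] L := { ψ₂ with commutes' := fun c => (RingHom.congr_fun hψ c).symm }
  ext r
  change ψ₁ r = ψ₂ r
  have hr : IsIntegral L ((1 : L) ⊗ₜ[R₀] r) := by
    exact IsIntegral.tmul (1 : L) (hint r)
  have := algHom_eq_of_preconnected
    (Algebra.TensorProduct.lift (AlgHom.id L L) a₁ fun _ _ => Commute.all _ _)
    (Algebra.TensorProduct.lift (AlgHom.id L L) a₂ fun _ _ => Commute.all _ _) _ hr
  simpa [a₁, a₂] using this

end Groth.Agent.SteinUI12
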